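import Groth.Agent.FlatLimHx.Functor
import Groth.Agent.FlatFunHx.Flat
import Groth.Agent.FlatPureHx.UnivInj
import Groth.Agent.FlatSyz5.Colim
import Groth.Agent.QCoh.FlatOver
import Groth.Agent.S2394
import Groth.Agent.MorLib.DescendOpen

/-!
Limit preservation of the flatness functor.
-/

set_option autoImplicit false
set_option linter.style.haveILetI false
set_option backward.isDefEq.respectTransparency false
set_option maxHeartbeats 1000000

universe u

open CategoryTheory CategoryTheory.Limits AlgebraicGeometry Opposite TensorProduct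

namespace Groth.Agent.FlatLimHx

/-- The directed colimit of rings of global sections along a cofiltered limit of affine schemes, over a stage. -/
theorem exists_colimRing {I : Type u} [SmallCategory I] [IsCofiltered I] (D : I ⥤ Scheme.{u})
    [∀ i, IsAffine (D.obj i)] (c : Cone D) (hc : IsLimit c) [IsAffine c.pt] (i : I) :
    letI : Algebra Γ(D.obj i, ⊤) Γ(c.pt, ⊤) := (c.π.app i).appTop.hom.toAlgebra
    ∃ (α : Type u) (_ : Preorder α) (jf : α → Over i),
      letI : ∀ a, Algebra Γ(D.obj i, ⊤) Γ(D.obj (jf a).left, ⊤) := fun a => (D.map (jf a).hom).appTop.hom.toAlgebra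
      letI : ∀ a, Algebra Γ(D.obj (jf a).left, ⊤) Γ(c.pt, ⊤) := fun a => (c.π.app (jf a).left).appTop.hom.toAlgebra
      ∃ (g : ∀ a b, a ≤ b → Γ(D.obj (jf a).left, ⊤) →ₐ[Γ(D.obj i, ⊤)] Γ(D.obj (jf b).left, ⊤)),
        (∀ a, IsScalarTower Γ(D.obj i, ⊤) Γ(D.obj (jf a).left, ⊤) Γ(c.pt, ⊤)) ∧
        FlatCA.IsDirectedColimitRing (fun a => Γ(D.obj (jf a).left, ⊤)) (fun a b h => (g a b h).toRingHom)
          Γ(c.pt, ⊤) := by
  obtain ⟨α, _, _, _, F, _⟩ := IsFiltered.exists_directed (Over i)ᵒᵖ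
  haveI : IsFiltered α := inferInstance
  let E : αᵒᵖ ⥤ Scheme.{u} := F.leftOp ⋙ Over.forget i ⋙ D
  let cE : Cone E := (c.whisker (Over.forget i)).whisker F.leftOp
  haveI : F.leftOp.Initial := inferInstance
  have hcE : IsLimit cE := (Functor.Initial.isLimitWhiskerEquiv F.leftOp (c.whisker (Over.forget i))).symm
    ((Functor.Initial.isLimitWhiskerEquiv (Over.forget i) c).symm hc)
  haveI : ∀ a : αᵒᵖ, IsAffine (E.obj a) := fun a =>
    inferInstanceAs (IsAffine (D.obj (F.obj a.unop).unop.left))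
  haveI : ∀ {a b : αᵒᵖ} (m : a ⟶ b), IsAffineHom (E.map m) := fun m => isAffineHom_of_isAffine _
  refine ⟨α, inferInstance, fun a => (F.obj a).unop, ?_⟩
  letI : Algebra Γ(D.obj i, ⊤) Γ(c.pt, ⊤) := (c.π.app i).appTop.hom.toAlgebra
  letI : ∀ a, Algebra Γ(D.obj i, ⊤) Γ(D.obj (F.obj a).unop.left, ⊤) := fun a =>
    (D.map (F.obj a).unop.hom).appTop.hom.toAlgebra
  letI : ∀ a, Algebra Γ(D.obj (F.obj a).unop.left, ⊤) Γ(c.pt, ⊤) := fun a =>
    (c.π.app (F.obj a).unop.left).appTop.hom.toAlgebra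
  let g : ∀ a b, a ≤ b → Γ(D.obj (F.obj a).unop.left, ⊤) →ₐ[Γ(D.obj i, ⊤)] Γ(D.obj (F.obj b).unop.left, ⊤) :=
    fun a b h =>
    { (D.map (F.map (homOfLE h)).unop.left).appTop.hom with
      commutes' := fun x => MorLib.Desc.map_map_apply (F.map (homOfLE h)).unop x }
  refine ⟨g, fun a => IsScalarTower.of_algebraMap_eq' (RingHom.ext fun x => (MorLib.Desc.π_map_apply (F.obj a).unop x).symm),
    inferInstance, inferInstance, fun a => RingHom.ext fun x => ?_,
    fun a b d hab hbd => RingHom.ext fun x => ?_, fun a b h => RingHom.ext fun x => ?_, fun z => ?_,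
    fun a x hx => ?_⟩
  · show (D.map (F.map (homOfLE (le_refl a))).unop.left).appTop x = x
    rw [show homOfLE (le_refl a) = 𝟙 a from Subsingleton.elim _ _, F.map_id, unop_id, Over.id_left, D.map_id]
    rfl
  · show (D.map (F.map (homOfLE hbd)).unop.left).appTop ((D.map (F.map (homOfLE hab)).unop.left).appTop x) =
      (D.map (F.map (homOfLE (hab.trans hbd))).unop.left).appTop x
    rw [show homOfLE (hab.trans hbd) = homOfLE hab ≫ homOfLE hbd from Subsingleton.elim _ _, F.map_comp,
      unop_comp, Over.comp_left, D.map_comp, Scheme.Hom.comp_appTop]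
    rfl
  · show (c.π.app (F.obj b).unop.left).appTop ((D.map (F.map (homOfLE h)).unop.left).appTop x) =
      (c.π.app (F.obj a).unop.left).appTop x
    rw [← c.w (F.map (homOfLE h)).unop.left, Scheme.Hom.comp_appTop]
    rfl
  · obtain ⟨a, y, hy⟩ := exists_appTop_π_eq_of_isAffine_of_isLimit E cE hcE z
    exact ⟨a.unop, y, hy⟩
  · obtain ⟨b, m, hm⟩ := exists_appTop_map_eq_zero_of_isLimit E cE hcE (i := op a) x hx
    refine ⟨b.unop, leOfHom m.unop, ?_⟩
    show (D.map (F.map (homOfLE (leOfHom m.unop))).unop.left).appTop x = 0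
    rw [show homOfLE (leOfHom m.unop) = m.unop from Subsingleton.elim _ _]
    exact hm

theorem isFlatOver_congr {Y S : Scheme.{u}} (q : Y ⟶ S) {M N : Y.Modules} (e : M ≅ N) :
    FlatMod.IsFlatOver q M ↔ FlatMod.IsFlatOver q N :=
  ⟨fun h x => GrFlat5.isFlatOverAt_of_iso q e x (h x), fun h x => GrFlat5.isFlatOverAt_of_iso q e.symm x (h x)⟩

/-- Flatness of `q^* F` along a cartesian square passes to the base change. -/
theorem isFlatOver_baseChange {Y Y' T T' X : Scheme.{u}} {q : Y ⟶ T} {q' : Y' ⟶ T'} {m : Y' ⟶ Y} {g : T' ⟶ T}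
    (hc : IsPullback m q' q g) (a : Y ⟶ X) (M : X.Modules) (h : FlatMod.IsFlatOver q ((Scheme.Modules.pullback a).obj M)) :
    FlatMod.IsFlatOver q' ((Scheme.Modules.pullback (m ≫ a)).obj M) :=
  (isFlatOver_congr q' ((Scheme.Modules.pullbackComp m a).app M)).1 fun x =>
    MorLib.FlatBC.isFlatOverAt_baseChange q q' m g hc _ x (h (m x))

/-- Descent of flatness along a morphism flat and surjective at a point. -/
theorem isFlatOverAt_of_pullback {Y' Y S : Scheme.{u}} (q : Y ⟶ S) (m : Y' ⟶ Y) [Flat m] (M : Y.Modules) (x : Y')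
    (h : FlatMod.IsFlatOverAt (m ≫ q) ((Scheme.Modules.pullback m).obj M) x) :
    FlatMod.IsFlatOverAt q M (m x) := by
  letI := FlatMod.moduleStalkOver (m ≫ q) ((Scheme.Modules.pullback m).obj M) x
  letI := FlatMod.moduleStalkOver q M (m x)
  letI : Algebra (S.presheaf.stalk (q (m x))) (Y.presheaf.stalk (m x)) := (q.stalkMap (m x)).hom.toAlgebra
  letI : Algebra (Y.presheaf.stalk (m x)) (Y'.presheaf.stalk x) := (m.stalkMap x).hom.toAlgebra
  letI : Algebra (S.presheaf.stalk (q (m x))) (Y'.presheaf.stalk x) := ((m ≫ q).stalkMap x).hom.toAlgebra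
  haveI : IsScalarTower (S.presheaf.stalk (q (m x))) (Y.presheaf.stalk (m x)) (Y'.presheaf.stalk x) :=
    .of_algebraMap_eq fun r => by
      show ((m ≫ q).stalkMap x).hom r = (m.stalkMap x).hom ((q.stalkMap (m x)).hom r)
      rw [Scheme.Hom.stalkMap_comp]; rfl
  haveI : IsScalarTower (S.presheaf.stalk (q (m x))) (Y.presheaf.stalk (m x)) (M.presheaf.stalk (m x)) :=
    .of_algebraMap_smul fun _ _ => rfl
  letI : Module (S.presheaf.stalk (q (m x))) (((Scheme.Modules.pullback m).obj M).presheaf.stalk x) :=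
    FlatMod.moduleStalkOver (m ≫ q) ((Scheme.Modules.pullback m).obj M) x
  haveI : IsScalarTower (S.presheaf.stalk (q (m x))) (Y'.presheaf.stalk x)
      (((Scheme.Modules.pullback m).obj M).presheaf.stalk x) := .of_algebraMap_smul fun _ _ => rfl
  haveI : Module.FaithfullyFlat (Y.presheaf.stalk (m x)) (Y'.presheaf.stalk x) :=
    FlatFunHx.faithfullyFlat_stalkMap m x
  haveI : Module.Flat (S.presheaf.stalk (q (m x))) (((Scheme.Modules.pullback m).obj M).presheaf.stalk x) := h
  let e := ((KFlatLib.stalkPullbackIso m x).app M).toLinearEquiv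
  let e' : (((Scheme.Modules.pullback m).obj M).presheaf.stalk x) ≃ₗ[S.presheaf.stalk (q (m x))]
      Y'.presheaf.stalk x ⊗[Y.presheaf.stalk (m x)] M.presheaf.stalk (m x) :=
    { toFun := e
      invFun := e.symm
      left_inv := e.left_inv
      right_inv := e.right_inv
      map_add' := e.map_add
      map_smul' := fun r a => by
        rw [RingHom.id_apply, ← algebraMap_smul (Y'.presheaf.stalk x) r]
        exact e.map_smul _ a }
  exact S1392.descend (R := S.presheaf.stalk (q (m x))) (A := Y.presheaf.stalk (m x))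
    (R' := S.presheaf.stalk (q (m x))) (L := Y'.presheaf.stalk x) (Module.Flat.of_linearEquiv e'.symm)

attribute [local instance] Algebra.TensorProduct.rightAlgebra in
/-- Flatness on the standard affine piece in terms of modules. -/
theorem flat_model_iff (A₀ B₀ A : Type u) [CommRing A₀] [CommRing B₀] [CommRing A] [Algebra A₀ B₀] [Algebra A₀ A]
    (M : Type u) [AddCommGroup M] [Module B₀ M] [Module A₀ M] [IsScalarTower A₀ B₀ M] :
    FlatMod.IsFlatOver (Spec.map (CommRingCat.ofHom (algebraMap A (A ⊗[A₀] B₀))))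
        ((Scheme.Modules.pullback (Spec.map (CommRingCat.ofHom (algebraMap B₀ (A ⊗[A₀] B₀))))).obj
          (tilde (R := CommRingCat.of B₀) (ModuleCat.of B₀ M))) ↔
      Module.Flat A (A ⊗[A₀] M) := by
  let L := A ⊗[A₀] B₀
  let N := L ⊗[B₀] M
  letI : Module A N := TensorProduct.leftModule
  haveI : IsScalarTower A L N := TensorProduct.isScalarTower_left
  refine (isFlatOver_congr _ ((QCoh.tildePullbackIso (CommRingCat.ofHom (algebraMap B₀ L))).app
    (ModuleCat.of B₀ M) ≪≫ (tilde.functor (CommRingCat.of L)).mapIso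
      (show (ModuleCat.extendScalars (algebraMap B₀ L)).obj (ModuleCat.of B₀ M) ≅ ModuleCat.of L N from
        LinearEquiv.toModuleIso
          { toFun := fun z => z, invFun := fun z => z, left_inv := fun _ => rfl, right_inv := fun _ => rfl,
            map_add' := fun _ _ => rfl, map_smul' := fun l z => by
              induction z with
              | zero => simp
              | tmul a b => rfl
              | add a b ha hb => simp only [smul_add, RingHom.id_apply] at * }))).trans
    ((S2394.result A L N).trans ?_)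
  letI : Module A₀ N := TensorProduct.leftModule
  haveI : IsScalarTower A₀ A N := TensorProduct.isScalarTower_left
  haveI : IsScalarTower A₀ B₀ N := TensorProduct.isScalarTower_left
  have hb : IsBaseChange A ((TensorProduct.mk B₀ L M 1).restrictScalars A₀) :=
    FlatPureHx.isBaseChange_of_isPushout (TensorProduct.isBaseChange B₀ M L)
  exact ⟨fun h => Module.Flat.of_linearEquiv hb.equiv, fun h => Module.Flat.of_linearEquiv hb.equiv.symm⟩

attribute [local instance] Algebra.TensorProduct.rightAlgebra in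
/-- Flatness of the pieces. -/
theorem flat_piece_iff {B : CommRingCat.{u}} {T₀ T : Scheme.{u}} [IsAffine T₀] [IsAffine T] (xi : Spec B ⟶ T₀)
    (g : T ⟶ T₀) (M : ModuleCat.{u} B) :
    letI : Algebra Γ(T₀, ⊤) Γ(T, ⊤) := g.appTop.hom.toAlgebra
    letI : Algebra Γ(T₀, ⊤) B := (Spec.preimage (xi ≫ T₀.isoSpec.hom)).hom.toAlgebra
    letI : Module Γ(T₀, ⊤) M := Module.compHom M (Spec.preimage (xi ≫ T₀.isoSpec.hom)).hom
    FlatMod.IsFlatOver (pullback.snd xi g) ((Scheme.Modules.pullback (pullback.fst xi g)).obj (tilde M)) ↔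
      Module.Flat Γ(T, ⊤) (Γ(T, ⊤) ⊗[Γ(T₀, ⊤)] M) := by
  letI : Algebra Γ(T₀, ⊤) Γ(T, ⊤) := g.appTop.hom.toAlgebra
  letI : Algebra Γ(T₀, ⊤) B := (Spec.preimage (xi ≫ T₀.isoSpec.hom)).hom.toAlgebra
  letI : Module Γ(T₀, ⊤) M := Module.compHom M (Spec.preimage (xi ≫ T₀.isoSpec.hom)).hom
  haveI : IsScalarTower Γ(T₀, ⊤) B M := IsScalarTower.of_algebraMap_smul fun _ _ => rfl
  refine Iff.trans ?_ (flat_model_iff Γ(T₀, ⊤) B Γ(T, ⊤) M)
  let L := Γ(T, ⊤) ⊗[Γ(T₀, ⊤)] B
  let l : Spec (CommRingCat.of L) ⟶ Spec B := Spec.map (CommRingCat.ofHom (algebraMap B L))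
  let r : Spec (CommRingCat.of L) ⟶ Spec Γ(T, ⊤) := Spec.map (CommRingCat.ofHom (algebraMap Γ(T, ⊤) L))
  have sq : IsPullback l r (Spec.map (Spec.preimage (xi ≫ T₀.isoSpec.hom))) (Spec.map g.appTop) :=
    (isPullback_SpecMap_of_isPushout _ _ _ _ (CommRingCat.isPushout_tensorProduct Γ(T₀, ⊤) Γ(T, ⊤) B)).flip
  rw [Spec.map_preimage] at sq
  have sq' : IsPullback l (r ≫ T.isoSpec.inv) xi g := by
    have h0 : IsPullback (Spec.map g.appTop) T.isoSpec.inv T₀.isoSpec.inv g :=
      IsPullback.of_vert_isIso ⟨(Scheme.isoSpec_inv_naturality g)⟩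
    have := sq.paste_vert h0
    rwa [Category.assoc, Iso.hom_inv_id, Category.comp_id] at this
  let e := sq'.isoPullback
  have sqe : IsPullback e.hom r (pullback.snd xi g) T.isoSpec.inv :=
    IsPullback.of_horiz_isIso ⟨sq'.isoPullback_hom_snd⟩
  have sqe' : IsPullback e.inv (pullback.snd xi g) r T.isoSpec.hom :=
    IsPullback.of_horiz_isIso ⟨by rw [← cancel_mono T.isoSpec.inv, Category.assoc, sq'.isoPullback_inv_snd]; simp⟩
  constructor
  · intro h
    have h1 := isFlatOver_baseChange sqe (pullback.fst xi g) (tilde M) h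
    rw [show e.hom ≫ pullback.fst xi g = l from sq'.isoPullback_hom_fst] at h1
    exact h1
  · intro h
    have h1 := isFlatOver_baseChange sqe' l (tilde M) h
    rw [show e.inv ≫ l = pullback.fst xi g from sq'.isoPullback_inv_fst] at h1
    exact h1

/-- The flatness functor is limit preserving. -/
theorem isLimitPreserving_flat {X S : Scheme.{u}} (f : X ⟶ S) [QuasiCompact f] [LocallyOfFinitePresentation f]
    (F : X.Modules) [Coh.IsQCoh F] (hF : CohB1.IsFP F) :
    AlgSp.IsLimitPreserving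
      (FlatFun.genPSp S (fun T => FlatMod.IsFlatOver (PicF.XTproj f T) (FGA.ET f F T))) := by
  refine isLimitPreserving_genPSp _ (fun T' T g h x' => FlatFunHx.flatAt_of_hom f F g x' (h _))
    fun I _ _ D c hc hD hT h => ?_
  refine exists_stage_of_charts f D c hc hD hT (fun T => FlatMod.IsFlatOver (PicF.XTproj f T) (FGA.ET f F T))
    (good := fun {P T} a t => FlatMod.IsFlatOver t ((Scheme.Modules.pullback a).obj F)) ?_ ?_ ?_ ?_ h
  · exact fun {P' P T' T} a t m t' g hc ha => isFlatOver_baseChange hc a F ha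
  · intro T hT' P m _
    exact (isFlatOver_congr _ ((Scheme.Modules.pullbackComp m (pullback.fst f T.hom)).app F)).1 fun x =>
      FlatFunHx.isFlatOverAt_pullback_of_flat _ m _ x (Flat.stalkMap m x) (hT' (m x))
  · intro T _ ι P e he hs hg y
    obtain ⟨i, o, rfl⟩ := hs y
    haveI := he i
    exact isFlatOverAt_of_pullback _ (e i) _ o
      ((isFlatOver_congr _ ((Scheme.Modules.pullbackComp (e i) (pullback.fst f T.hom)).app F)).2 (hg i) o)
  · intro D₀ c₀ hc₀ hD₀ hT₀ i₀ B xi V hV a hxi hg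
    haveI := hD₀
    haveI := hT₀
    haveI := hxi inferInstance
    haveI : IsAffine (D₀.obj i₀) := hD₀ i₀
    -- the module on the chart
    haveI : IsIso (F.restrict hV.fromSpec).fromTildeΓ :=
      (isQuasicoherent_iff_isIso_fromTildeΓ _).1 (QCoh.isQCoh_restrict hV.fromSpec ‹Coh.IsQCoh F›)
    let M₁ := moduleSpecΓFunctor.obj (F.restrict hV.fromSpec)
    haveI : Module.FinitePresentation Γ(X, V) Γ(F, V) := QCoh.finitePresentation_of_isFP hF hV
    let eF : Γ(F, V) ≃ₗ[Γ(X, V)] M₁ := LinearEquiv.ofBijective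
      { toFun := QCoh.toChart hV F, map_add' := QCoh.toChart_add hV F, map_smul' := fun r x => QCoh.toChart_smul hV F r x }
      (QCoh.bijective_toChart hV F)
    haveI : Module.FinitePresentation Γ(X, V) M₁ := Module.finitePresentation_of_surjective eF.toLinearMap eF.surjective
      (by rw [LinearEquiv.ker]; exact Submodule.fg_bot)
    letI : Algebra Γ(X, V) B := (Spec.preimage a).hom.toAlgebra
    let M := (ModuleCat.extendScalars (Spec.preimage a).hom).obj M₁
    haveI : Module.FinitePresentation B M := inferInstanceAs (Module.FinitePresentation B (B ⊗[Γ(X, V)] M₁))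
    let eM : (Scheme.Modules.pullback (a ≫ hV.fromSpec)).obj F ≅ tilde M :=
      ((Scheme.Modules.pullbackComp a hV.fromSpec).app F).symm ≪≫
        (Scheme.Modules.pullback a).mapIso (((Scheme.Modules.restrictFunctorIsoPullback hV.fromSpec).app F).symm ≪≫
          (asIso (F.restrict hV.fromSpec).fromTildeΓ).symm) ≪≫
        (Scheme.Modules.pullbackCongr (Spec.map_preimage a).symm).app _ ≪≫
        (QCoh.tildePullbackIso (Spec.preimage a)).app M₁
    have key : ∀ {T : Scheme.{u}} (g : T ⟶ D₀.obj i₀),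
        FlatMod.IsFlatOver (pullback.snd xi g)
            ((Scheme.Modules.pullback (pullback.fst xi g ≫ a ≫ hV.fromSpec)).obj F) ↔
          FlatMod.IsFlatOver (pullback.snd xi g) ((Scheme.Modules.pullback (pullback.fst xi g)).obj (tilde M)) :=
      fun g => isFlatOver_congr _ (((Scheme.Modules.pullbackComp _ _).app F).symm ≪≫
        (Scheme.Modules.pullback (pullback.fst xi g)).mapIso eM)
    let β := Spec.preimage (xi ≫ (D₀.obj i₀).isoSpec.hom)
    letI : Algebra Γ(D₀.obj i₀, ⊤) B := β.hom.toAlgebra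
    letI : Module Γ(D₀.obj i₀, ⊤) M := Module.compHom M β.hom
    haveI : IsScalarTower Γ(D₀.obj i₀, ⊤) B M := IsScalarTower.of_algebraMap_smul fun _ _ => rfl
    haveI : Algebra.FinitePresentation Γ(D₀.obj i₀, ⊤) B := by
      have h1 : LocallyOfFinitePresentation (Spec.map β) := by
        rw [Spec.map_preimage]; infer_instance
      exact (HasRingHomProperty.Spec_iff (P := @LocallyOfFinitePresentation)).1 h1
    letI : Algebra Γ(D₀.obj i₀, ⊤) Γ(c₀.pt, ⊤) := (c₀.π.app i₀).appTop.hom.toAlgebra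
    haveI : IsAffine (((Functor.const I).obj c₀.pt).obj i₀) := hT₀
    obtain ⟨α, _, jf, g, htow, hcol⟩ := exists_colimRing D₀ c₀ hc₀ i₀
    letI : ∀ a, Algebra Γ(D₀.obj i₀, ⊤) Γ(D₀.obj (jf a).left, ⊤) := fun a => (D₀.map (jf a).hom).appTop.hom.toAlgebra
    letI : ∀ a, Algebra Γ(D₀.obj (jf a).left, ⊤) Γ(c₀.pt, ⊤) := fun a => (c₀.π.app (jf a).left).appTop.hom.toAlgebra
    haveI := htow
    obtain ⟨j, hj⟩ := FlatSyz5.exists_flat_stage (B₀ := B) (fun a => Γ(D₀.obj (jf a).left, ⊤)) g Γ(c₀.pt, ⊤) hcol M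
      ((flat_piece_iff xi (c₀.π.app i₀) M).1 ((key _).1 hg))
    exact ⟨jf j, (key _).2 ((flat_piece_iff xi (D₀.map (jf j).hom) M).2 hj)⟩

end Groth.Agent.FlatLimHx
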