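import Groth.Agent.FlatLimHx.Affine
import Groth.Agent.FlatFunHx.Cover
import Groth.Agent.MorLib.BaseChangeLim
import Groth.Prelude.Def_AlgSpRep

/-!
Limit preservation of flattening functors.
-/

set_option autoImplicit false
set_option linter.style.haveILetI false
set_option backward.isDefEq.respectTransparency false
set_option maxHeartbeats 1000000

universe u

open CategoryTheory CategoryTheory.Limits AlgebraicGeometry Opposite

namespace Groth.Agent.FlatLimHx

variable {S : Scheme.{u}}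

/-- A sub-presheaf of the final presheaf is limit preserving as soon as membership descends to a stage. -/
theorem isLimitPreserving_genPSp (P : Over S → Prop) (hP : ∀ ⦃T' T : Over S⦄ (_ : T' ⟶ T), P T → P T')
    (hstage : ∀ ⦃I : Type u⦄ [SmallCategory I] [IsCofiltered I] (D : I ⥤ Over S) (c : Cone D),
      IsLimit ((Over.forget S).mapCone c) → (∀ i, IsAffine (D.obj i).left) → IsAffine c.pt.left →
      P c.pt → ∃ i, P (D.obj i)) :
    AlgSp.IsLimitPreserving (FlatFun.genPSp S P) := by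
  intro I _ _ D c hc hD hT
  haveI := fun U : (Over S)ᵒᵖ => FlatFun.genPSp_subsingleton S P U
  refine ⟨Types.FilteredColimit.isColimitOf _ _ (fun x => ?_) fun i j xi xj _ => ?_⟩
  · obtain ⟨i, hi⟩ := hstage D c hc hD hT
      ((FlatFun.genPSp_nonempty_iff_of_stable P (fun _ _ k => hP k) _).1 ⟨x⟩)
    obtain ⟨t⟩ := FlatFun.genPSp_nonempty_of P hi
    exact ⟨op i, t, (FlatFun.genPSp_subsingleton S P (op c.pt)).elim _ _⟩
  · exact ⟨IsFiltered.max i j, IsFiltered.leftToMax i j, IsFiltered.rightToMax i j,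
      (FlatFun.genPSp_subsingleton S P _).elim _ _⟩

variable {X : Scheme.{u}} (f : X ⟶ S)

/-- The affine piece of `X_T` over `W ⊆ X_{T₀}`. -/
noncomputable def piece {T₀ T : Over S} (g : T ⟶ T₀) {W : (PicF.XT f T₀).Opens} (hW : IsAffineOpen W) :
    pullback (hW.fromSpec ≫ PicF.XTproj f T₀) g.left ⟶ PicF.XT f T :=
  pullback.lift (pullback.fst _ _ ≫ hW.fromSpec ≫ pullback.fst f T₀.hom) (pullback.snd _ _) (by
    have h1 := pullback.condition (f := hW.fromSpec ≫ PicF.XTproj f T₀) (g := g.left)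
    rw [show T.hom = g.left ≫ T₀.hom from (Over.w g).symm, ← reassoc_of% h1]
    simp only [Category.assoc, PicF.XTproj, pullback.condition])

theorem piece_fst {T₀ T : Over S} (g : T ⟶ T₀) {W : (PicF.XT f T₀).Opens} (hW : IsAffineOpen W) :
    piece f g hW ≫ pullback.fst f T.hom = pullback.fst _ _ ≫ hW.fromSpec ≫ pullback.fst f T₀.hom :=
  pullback.lift_fst _ _ _

theorem piece_snd {T₀ T : Over S} (g : T ⟶ T₀) {W : (PicF.XT f T₀).Opens} (hW : IsAffineOpen W) :
    piece f g hW ≫ PicF.XTproj f T = pullback.snd _ _ :=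
  pullback.lift_snd _ _ _

theorem isPullback_piece {T₀ T : Over S} (g : T ⟶ T₀) {W : (PicF.XT f T₀).Opens} (hW : IsAffineOpen W) :
    IsPullback (piece f g hW) (pullback.fst _ _) (PicF.XTmap f g) hW.fromSpec := by
  refine IsPullback.of_right ?_ ?_ (FlatFunHx.isPullback_XTmap f g).flip
  · rw [piece_snd]
    exact (IsPullback.of_hasPullback _ _).flip
  · apply pullback.hom_ext
    · rw [Category.assoc, FlatFunHx.XTmap_fst, Category.assoc, piece_fst]
    · rw [Category.assoc, Category.assoc]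
      show piece f g hW ≫ PicF.XTmap f g ≫ PicF.XTproj f T₀ = _
      rw [(FlatFunHx.isPullback_XTmap f g).w, ← Category.assoc, piece_snd]
      exact pullback.condition.symm

instance {T₀ T : Over S} (g : T ⟶ T₀) {W : (PicF.XT f T₀).Opens} (hW : IsAffineOpen W) :
    IsOpenImmersion (piece f g hW) :=
  MorphismProperty.of_isPullback (isPullback_piece f g hW).flip inferInstance

/-- A property `Q` of `T` that can be checked on charts and descends on each chart descends.
`good a t` is the chart form of the property for a scheme over `X` and over the test scheme. -/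
theorem exists_stage_of_charts [QuasiCompact f] {I : Type u} [SmallCategory I] [IsCofiltered I]
    (D : I ⥤ Over S) (c : Cone D) (hc : IsLimit ((Over.forget S).mapCone c)) (hD : ∀ i, IsAffine (D.obj i).left)
    (hT : IsAffine c.pt.left) (Q : Over S → Prop)
    (good : ∀ {P T : Scheme.{u}}, (P ⟶ X) → (P ⟶ T) → Prop)
    (hmono : ∀ {P' P T' T : Scheme.{u}} (a : P ⟶ X) (t : P ⟶ T) (m : P' ⟶ P) (t' : P' ⟶ T') (g : T' ⟶ T),
      IsPullback m t' t g → good a t → good (m ≫ a) t')
    (hQ : ∀ (T : Over S), Q T → ∀ {P : Scheme.{u}} (m : P ⟶ PicF.XT f T) [IsOpenImmersion m],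
      good (m ≫ pullback.fst f T.hom) (m ≫ PicF.XTproj f T))
    (hglue : ∀ (T : Over S), IsAffine T.left → ∀ {ι : Type u} (P : ι → Scheme.{u}) (e : ∀ i, P i ⟶ PicF.XT f T)
      (_ : ∀ i, IsOpenImmersion (e i)), (∀ x, ∃ i, x ∈ Set.range (e i)) →
      (∀ i, good (e i ≫ pullback.fst f T.hom) (e i ≫ PicF.XTproj f T)) → Q T)
    (hchart : ∀ (D₀ : I ⥤ Scheme.{u}) (c₀ : Cone D₀) (_ : IsLimit c₀) (_ : ∀ i, IsAffine (D₀.obj i))
      (_ : IsAffine c₀.pt) (i₀ : I) (B : CommRingCat.{u}) (xi : Spec B ⟶ D₀.obj i₀) {V : X.Opens} (hV : IsAffineOpen V)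
      (a : Spec B ⟶ Spec Γ(X, V)), (LocallyOfFinitePresentation f → LocallyOfFinitePresentation xi) →
      good (pullback.fst xi (c₀.π.app i₀) ≫ a ≫ hV.fromSpec) (pullback.snd xi (c₀.π.app i₀)) →
      ∃ j : Over i₀, good (pullback.fst xi (D₀.map j.hom) ≫ a ≫ hV.fromSpec) (pullback.snd xi (D₀.map j.hom)))
    (h : Q c.pt) : ∃ i, Q (D.obj i) := by
  classical
  obtain ⟨i₀⟩ := IsCofiltered.nonempty (C := I)
  let D₀ : I ⥤ Scheme.{u} := D ⋙ Over.forget S
  let c₀ : Cone D₀ := (Over.forget S).mapCone c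
  haveI : ∀ i, IsAffine (D₀.obj i) := hD
  haveI : IsAffine c₀.pt := hT
  haveI : IsAffine (D.obj i₀).left := hD i₀
  haveI : CompactSpace (PicF.XT f (D.obj i₀)) :=
    QuasiCompact.compactSpace_of_compactSpace (PicF.XTproj f (D.obj i₀))
  -- affine charts of `X_{T₀}` lying over affine charts of `X`
  let q := pullback.fst f (D.obj i₀).hom
  have hcov : ∀ x : PicF.XT f (D.obj i₀), ∃ (V : X.affineOpens) (W : (PicF.XT f (D.obj i₀)).affineOpens),
      W.1 ≤ q ⁻¹ᵁ V.1 ∧ x ∈ W.1 := by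
    intro x
    obtain ⟨V, hV, hxV, -⟩ := exists_isAffineOpen_mem_and_subset (x := q x) (U := ⊤) trivial
    obtain ⟨W, hW, hxW, hWV⟩ := exists_isAffineOpen_mem_and_subset (x := x) (U := q ⁻¹ᵁ V) hxV
    exact ⟨⟨V, hV⟩, ⟨W, hW⟩, hWV, hxW⟩
  choose V W hle hxW using hcov
  obtain ⟨F, hF⟩ := isCompact_univ.elim_finite_subcover
    (fun x => (((W x).1 : (PicF.XT f (D.obj i₀)).Opens) : Set (PicF.XT f (D.obj i₀))))
    (fun x => (W x).1.2) fun x _ => Set.mem_iUnion.mpr ⟨x, hxW x⟩
  -- the affine systems over the charts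
  have hW : ∀ x, IsAffineOpen (W x).1 := fun x => (W x).2
  let xi : ∀ x, Spec Γ(PicF.XT f (D.obj i₀), (W x).1) ⟶ D₀.obj i₀ := fun x =>
    (hW x).fromSpec ≫ PicF.XTproj f (D.obj i₀)
  let e : ∀ x (j : Over i₀), pullback (xi x) (D₀.map j.hom) ⟶ PicF.XT f (D.obj j.left) := fun x j =>
    piece f (D.map j.hom) (hW x)
  have he : ∀ x (j : Over i₀), IsPullback (e x j) (pullback.fst _ _) (PicF.XTmap f (D.map j.hom)) (hW x).fromSpec :=
    fun x j => isPullback_piece f (D.map j.hom) (hW x)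
  -- descend on each chart
  have hloc : ∀ x, ∃ j : Over i₀,
      good (e x j ≫ pullback.fst f (D.obj j.left).hom) (e x j ≫ PicF.XTproj f (D.obj j.left)) := by
    intro x
    let a := Spec.map (q.appLE (V x).1 (W x).1 (hle x))
    have ha : a ≫ (V x).2.fromSpec = (hW x).fromSpec ≫ q :=
      IsAffineOpen.SpecMap_appLE_fromSpec q (V x).2 (hW x) (hle x)
    have hgood := hQ c.pt h (piece f (T := c.pt) (c.π.app i₀) (hW x))
    rw [piece_fst, piece_snd, ← ha] at hgood
    obtain ⟨j, hj⟩ := hchart D₀ c₀ hc inferInstance inferInstance i₀ _ (xi x) (V x).2 a (fun hf => by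
      haveI := hf
      haveI : LocallyOfFinitePresentation (PicF.XTproj f (D.obj i₀)) :=
        MorphismProperty.of_isPullback (IsPullback.of_hasPullback f (D.obj i₀).hom) hf
      infer_instance) hgood
    rw [ha] at hj
    refine ⟨j, ?_⟩
    rwa [show e x j ≫ pullback.fst f (D.obj j.left).hom = _ from piece_fst _ _ _,
      show e x j ≫ PicF.XTproj f (D.obj j.left) = _ from piece_snd _ _ _]
  choose j hj using hloc
  obtain ⟨k, hk⟩ := IsCofiltered.inf_objs_exists (F.image j)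
  refine ⟨k.left, hglue _ (hD _) (fun x : F => pullback (xi x.1) (D₀.map k.hom)) (fun x => e x.1 k) (fun x => ?_)
    (fun y => ?_) fun x => ?_⟩
  · exact MorphismProperty.of_isPullback (he x.1 k).flip inferInstance
  · obtain ⟨z, hz⟩ := Set.mem_iUnion.mp (hF (Set.mem_univ (PicF.XTmap f (D.map k.hom) y)))
    obtain ⟨hzF, hz⟩ := Set.mem_iUnion.mp hz
    obtain ⟨w, hw⟩ : PicF.XTmap f (D.map k.hom) y ∈ Set.range (hW z).fromSpec := by
      rw [(hW z).range_fromSpec]; exact hz
    obtain ⟨o, ho, -⟩ := Scheme.exists_preimage_of_isPullback (he z k) y w hw.symm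
    exact ⟨⟨z, hzF⟩, o, ho⟩
  · obtain ⟨g⟩ := hk (Finset.mem_image_of_mem j x.2)
    have h2 := hj x.1
    rw [show e x.1 (j x.1) ≫ pullback.fst f _ = _ from piece_fst _ _ _,
      show e x.1 (j x.1) ≫ PicF.XTproj f _ = _ from piece_snd _ _ _] at h2
    replace h2 : good (pullback.fst (xi x.1) (D₀.map (j x.1).hom) ≫ (hW x.1).fromSpec ≫ q)
      (pullback.snd (xi x.1) (D₀.map (j x.1).hom)) := h2
    have := hmono _ _ ((MorLib.BC.diag D₀ (xi x.1)).map g) (pullback.snd (xi x.1) (D₀.map k.hom)) (D₀.map g.left)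
      (MorLib.BC.isPullback_map D₀ (xi x.1) g) h2
    rw [reassoc_of% (MorLib.BC.map_fst D₀ (xi x.1) g)] at this
    rwa [show e x.1 k ≫ pullback.fst f _ = _ from piece_fst _ _ _,
      show e x.1 k ≫ PicF.XTproj f _ = _ from piece_snd _ _ _]

/-- `u_T` has the property of the given kind. -/
abbrev KindAt (k : Kind) {F G : X.Modules} (φ : F ⟶ G) (T : Over S) : Prop :=
  k.Holds ((Scheme.Modules.pullback (pullback.fst f T.hom)).map φ)

theorem kindAt_of_hom (k : Kind) {F G : X.Modules} (φ : F ⟶ G) {T' T : Over S} (g : T' ⟶ T)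
    (h : KindAt f k φ T) : KindAt f k φ T' :=
  (k.holds_iff_of_arrowIso (pullbackCompArrow _ _ φ ≪≫ pullbackEqArrow (FlatFunHx.XTmap_fst f g) φ)).1
    (k.holds_map (PicF.XTmap f g) h)

/-- The functors `F_zero`, `F_surj`, `F_iso` are limit preserving. -/
theorem isLimitPreserving_kind [QuasiCompact f] (k : Kind) {F G : X.Modules} (hF : Coh.IsQCoh F)
    (hG : Coh.IsQCoh G) (φ : F ⟶ G)
    (hfin : ∀ V : X.affineOpens, k.FinHyp Γ(X, V.1) Γ(F, V.1) Γ(G, V.1)) :
    AlgSp.IsLimitPreserving (FlatFun.genPSp S (KindAt f k φ)) := by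
  refine isLimitPreserving_genPSp _ (fun _ _ g => kindAt_of_hom f k φ g) fun I _ _ D c hc hD hT h => ?_
  refine exists_stage_of_charts f D c hc hD hT (KindAt f k φ)
    (good := fun {P _} a _ => k.Holds ((Scheme.Modules.pullback a).map φ)) ?_ ?_ ?_ ?_ h
  · exact fun {P' P T' T} a _ m _ _ _ ha => (k.holds_iff_of_arrowIso (pullbackCompArrow m a φ)).1 (k.holds_map m ha)
  · exact fun T hT' {P} m _ => (k.holds_iff_of_arrowIso (pullbackCompArrow m _ φ)).1 (k.holds_map m hT')
  · intro T _ ι P e he hs hg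
    exact k.holds_of_cover e hs fun i => (k.holds_iff_of_arrowIso (pullbackCompArrow (e i) _ φ)).2 (hg i)
  · intro D₀ c₀ hc₀ hD₀ hT₀ i₀ B xi V hV a _ hg
    let hX := IsPullback.of_hasPullback xi (c₀.π.app i₀)
    let E := MorLib.BC.diag D₀ xi
    let cE := MorLib.BC.cone D₀ xi hX
    haveI : ∀ j, IsAffine (E.obj j) := fun j => inferInstanceAs (IsAffine (pullback xi (D₀.map j.hom)))
    haveI : IsAffine (((Functor.const I).obj c₀.pt).obj i₀) := hT₀
    haveI : IsAffine cE.pt := inferInstanceAs (IsAffine (pullback xi (c₀.π.app i₀)))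
    obtain ⟨j, hj⟩ := k.exists_stage_chart E cE (MorLib.BC.isLimitCone D₀ xi hX hc₀) hV
      (MorLib.BC.toStart D₀ xi ≫ (Functor.const (Over i₀)).map a) (pullback.fst xi (c₀.π.app i₀) ≫ a)
      (fun j => (Category.assoc _ _ _).symm.trans (congrArg (· ≫ a) (MorLib.BC.proj_fst D₀ xi hX j)))
      hF hG φ (hfin ⟨V, hV⟩) (by rw [Category.assoc]; exact hg)
    refine ⟨j, ?_⟩
    rw [← Category.assoc]
    exact hj

end Groth.Agent.FlatLimHx
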