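import Groth.Agent.FlatLimHx.Alg
import Groth.Agent.FlatFunHx.Stalk
import Groth.Agent.QCoh.Pullback
import Groth.Agent.QCoh.PullbackBC
import Groth.Agent.QCoh.SpecFT
import Groth.Agent.QCoh.FT
import Mathlib.CategoryTheory.Presentable.Directed
import Mathlib.AlgebraicGeometry.AffineTransitionLimit

/-!
Properties of an inverse image of a map of quasi-coherent modules descend along limits of affine
schemes mapping to an affine chart.
-/

set_option autoImplicit false
set_option linter.style.haveILetI false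
set_option backward.isDefEq.respectTransparency false
set_option maxHeartbeats 1000000

universe u

open CategoryTheory CategoryTheory.Limits AlgebraicGeometry Opposite TensorProduct

namespace Groth.Agent.FlatLimHx

open FlatFunHx

variable {X Y Z : Scheme.{u}}

/-- The arrow pulled back along a composite. -/
noncomputable def pullbackCompArrow (e : Z ⟶ Y) (q : Y ⟶ X) {M N : X.Modules} (φ : M ⟶ N) :
    Arrow.mk ((Scheme.Modules.pullback e).map ((Scheme.Modules.pullback q).map φ)) ≅
      Arrow.mk ((Scheme.Modules.pullback (e ≫ q)).map φ) :=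
  ((Functor.mapArrowFunctor _ _).mapIso (Scheme.Modules.pullbackComp e q)).app (Arrow.mk φ)

noncomputable def pullbackEqArrow {q q' : Y ⟶ X} (h : q = q') {M N : X.Modules} (φ : M ⟶ N) :
    Arrow.mk ((Scheme.Modules.pullback q).map φ) ≅ Arrow.mk ((Scheme.Modules.pullback q').map φ) :=
  ((Functor.mapArrowFunctor _ _).mapIso (Scheme.Modules.pullbackCongr h)).app (Arrow.mk φ)

theorem zero_iff_of_arrowIso {C : Type*} [Category C] [HasZeroMorphisms C] {A B A' B' : C}
    {f : A ⟶ B} {g : A' ⟶ B'} (e : Arrow.mk f ≅ Arrow.mk g) : f = 0 ↔ g = 0 := by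
  constructor <;> intro h <;> subst h
  · have := Arrow.w_mk e.inv
    rw [comp_zero] at this
    exact (cancel_mono e.inv.right).1 (by simpa using this.symm)
  · have := Arrow.w_mk e.hom
    rw [comp_zero] at this
    exact (cancel_mono e.hom.right).1 (by simpa using this.symm)

/-- Properties of maps of modules: vanishing, epimorphism, isomorphism. -/
inductive Kind | zero | epi | iso

/-- The property attached to a kind. -/
def Kind.Holds (k : Kind) {C : Type*} [Category C] [HasZeroMorphisms C] {A B : C} (f : A ⟶ B) : Prop :=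
  match k with
  | .zero => f = 0
  | .epi => Epi f
  | .iso => IsIso f

theorem Kind.holds_iff_of_arrowIso (k : Kind) {C : Type*} [Category C] [HasZeroMorphisms C] {A B A' B' : C}
    {f : A ⟶ B} {g : A' ⟶ B'} (e : Arrow.mk f ≅ Arrow.mk g) : k.Holds f ↔ k.Holds g :=
  match k with
  | .zero => zero_iff_of_arrowIso e
  | .epi => (MorphismProperty.epimorphisms C).arrow_mk_iso_iff e
  | .iso => (MorphismProperty.isomorphisms C).arrow_mk_iso_iff e

theorem Kind.holds_map (k : Kind) (q : Y ⟶ X) {M N : X.Modules} {φ : M ⟶ N} (h : k.Holds φ) :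
    k.Holds ((Scheme.Modules.pullback q).map φ) := by
  haveI : (Scheme.Modules.pullback q).IsLeftAdjoint :=
    (Scheme.Modules.pullbackPushforwardAdjunction q).isLeftAdjoint
  cases k with
  | zero => show _ = 0; rw [show φ = 0 from h, Functor.map_zero]
  | epi => haveI : Epi φ := h; show Epi _; infer_instance
  | iso => haveI : IsIso φ := h; show IsIso _; infer_instance

/-- The properties may be checked after pulling back along a jointly surjective family of flat maps. -/
theorem Kind.holds_of_cover (k : Kind) {ι : Type*} {W : ι → Scheme.{u}} (e : ∀ i, W i ⟶ Y) [∀ i, Flat (e i)]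
    (hs : ∀ y, ∃ i, y ∈ Set.range (e i)) {M N : Y.Modules} {φ : M ⟶ N}
    (h : ∀ i, k.Holds ((Scheme.Modules.pullback (e i)).map φ)) : k.Holds φ := by
  cases k with
  | zero =>
    exact (eq_zero_iff_stalk _).2 fun y => by
      obtain ⟨i, o, rfl⟩ := hs y
      exact (eq_zero_stalk_pullback_iff _ _ o).1 ((eq_zero_iff_stalk _).1 (h i) o)
  | epi =>
    exact (epi_iff_stalk _).2 fun y => by
      obtain ⟨i, o, rfl⟩ := hs y
      exact (epi_stalk_pullback_iff _ _ o).1 ((epi_iff_stalk _).1 (h i) o)
  | iso =>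
    exact (isIso_iff_stalk _).2 fun y => by
      obtain ⟨i, o, rfl⟩ := hs y
      exact (isIso_stalk_pullback_iff _ _ o).1 ((isIso_iff_stalk _).1 (h i) o)

theorem Kind.holds_pullback_iso_iff (k : Kind) (e : Y ⟶ X) [IsIso e] {M N : X.Modules} (φ : M ⟶ N) :
    k.Holds ((Scheme.Modules.pullback e).map φ) ↔ k.Holds φ :=
  ⟨fun h => k.holds_of_cover (fun _ : PUnit.{1} => e) (fun y => ⟨⟨⟩, e.surjective y⟩) (fun _ => h),
    k.holds_map e⟩

/-- The property of a linear map attached to a kind. -/
def Kind.LinHolds (k : Kind) {A : Type u} [CommRing A] {M N : Type u} [AddCommGroup M] [Module A M]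
    [AddCommGroup N] [Module A N] (f : M →ₗ[A] N) : Prop :=
  match k with
  | .zero => f = 0
  | .epi => Function.Surjective f
  | .iso => Function.Bijective f

theorem Kind.holds_moduleCat_iff (k : Kind) {A : Type u} [CommRing A] {M N : ModuleCat.{u} A} (f : M ⟶ N) :
    k.Holds f ↔ k.LinHolds f.hom :=
  match k with
  | .zero => ⟨fun h : f = 0 => show f.hom = 0 by rw [h]; rfl, fun h => ModuleCat.hom_ext h⟩
  | .epi => ModuleCat.epi_iff_surjective f
  | .iso => (ConcreteCategory.isIso_iff_bijective f)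

theorem Kind.holds_tilde_iff (k : Kind) {A : CommRingCat.{u}} {M N : ModuleCat.{u} A} (f : M ⟶ N) :
    k.Holds ((tilde.functor A).map f) ↔ k.Holds f := by
  cases k with
  | zero => exact ⟨fun h => (tilde.functor A).map_injective (h.trans (Functor.map_zero _ _ _).symm),
      fun h => by show _ = 0; rw [show f = 0 from h, Functor.map_zero]⟩
  | epi =>
    haveI : (tilde.functor A).IsLeftAdjoint := tilde.adjunction.isLeftAdjoint
    exact ⟨fun h => haveI : Epi ((tilde.functor A).map f) := h; (tilde.functor A).epi_of_epi_map this,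
      fun h => haveI : Epi f := h; show Epi _ from inferInstance⟩
  | iso => exact ⟨fun h => haveI : IsIso ((tilde.functor A).map f) := h; isIso_of_reflects_iso f (tilde.functor A),
      fun h => haveI : IsIso f := h; show IsIso _ from inferInstance⟩

variable {R : CommRingCat.{u}}

/-- The ring map underlying a morphism to an affine scheme. -/
noncomputable def ringMap (q : Y ⟶ Spec R) : R ⟶ Γ(Y, ⊤) := (Scheme.ΓSpecIso R).inv ≫ q.appTop

theorem ringMap_comp (e : Z ⟶ Y) (q : Y ⟶ Spec R) : ringMap (e ≫ q) = ringMap q ≫ e.appTop := by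
  simp [ringMap]

theorem eq_specMap_ringMap [IsAffine Y] (q : Y ⟶ Spec R) : Y.isoSpec.hom ≫ Spec.map (ringMap q) = q := by
  rw [ringMap, Spec.map_comp, ← Category.assoc, Scheme.isoSpec_hom, ← Scheme.toSpecΓ_naturality,
    Category.assoc, ← SpecMap_ΓSpecIso_hom, ← Spec.map_comp, Iso.inv_hom_id, Spec.map_id, Category.comp_id]

/-- The property of an inverse image along a map of affine schemes in terms of a tensor product. -/
theorem Kind.holds_pullback_tilde_iff (k : Kind) [IsAffine Y] (q : Y ⟶ Spec R) {M N : ModuleCat.{u} R} (f : M ⟶ N) :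
    letI := (ringMap q).hom.toAlgebra
    k.Holds ((Scheme.Modules.pullback q).map ((tilde.functor R).map f)) ↔
      k.LinHolds ((ModuleCat.extendScalars (ringMap q).hom).map f).hom := by
  rw [k.holds_iff_of_arrowIso ((pullbackEqArrow (eq_specMap_ringMap q) _).symm ≪≫ (pullbackCompArrow _ _ _).symm),
    k.holds_pullback_iso_iff,
    ]
  exact (k.holds_iff_of_arrowIso
    (((Functor.mapArrowFunctor _ _).mapIso (QCoh.tildePullbackIso (ringMap q))).app (Arrow.mk f))).trans
    ((k.holds_tilde_iff _).trans (k.holds_moduleCat_iff _))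

/-- The finiteness needed for a kind. -/
def Kind.FinHyp (k : Kind) (R : Type u) [CommRing R] (M N : Type u) [AddCommGroup M] [Module R M]
    [AddCommGroup N] [Module R N] : Prop :=
  match k with
  | .zero => Module.Finite R M
  | .epi => Module.Finite R N
  | .iso => Module.Finite R M ∧ Module.FinitePresentation R N

theorem Kind.exists_stage_lin (k : Kind) {R : Type u} [CommRing R] {ι : Type u} [Preorder ι] {G : ι → Type u}
    [∀ i, CommRing (G i)] [∀ i, Algebra R (G i)] {g : ∀ i j, i ≤ j → G i →ₐ[R] G j} {A : Type u} [CommRing A]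
    [Algebra R A] {a : ∀ i, G i →ₐ[R] A} (h : IsColim g a) {M N : Type u} [AddCommGroup M] [Module R M]
    [AddCommGroup N] [Module R N] (φ : M →ₗ[R] N) (hfin : k.FinHyp R M N) (hA : k.LinHolds (φ.lTensor A)) :
    ∃ j, k.LinHolds (φ.lTensor (G j)) := by
  cases k with
  | zero => haveI : Module.Finite R M := hfin; exact h.exists_zero φ hA
  | epi =>
    haveI : Module.Finite R N := hfin
    obtain ⟨j, hj⟩ := h.exists_surjective φ hA
    exact ⟨j, hj j le_rfl⟩
  | iso =>
    haveI : Module.Finite R M := hfin.1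
    haveI : Module.FinitePresentation R N := hfin.2
    exact h.exists_bijective φ hA

/-- Descent along a limit of affine schemes over `Spec R`. -/
theorem Kind.exists_stage_tilde (k : Kind) {J : Type u} [SmallCategory J] [IsCofiltered J] (E : J ⥤ Scheme.{u})
    [∀ j, IsAffine (E.obj j)] (c : Cone E) (hc : IsLimit c) [IsAffine c.pt] (ψ : E ⟶ (Functor.const J).obj (Spec R))
    (p : c.pt ⟶ Spec R) (hp : ∀ j, c.π.app j ≫ ψ.app j = p)
    {M N : ModuleCat.{u} R} (f : M ⟶ N) (hfin : k.FinHyp R M N)
    (h : k.Holds ((Scheme.Modules.pullback p).map ((tilde.functor R).map f))) :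
    ∃ j, k.Holds ((Scheme.Modules.pullback (ψ.app j)).map ((tilde.functor R).map f)) := by
  obtain ⟨α, _, _, _, F, _⟩ := IsFiltered.exists_directed Jᵒᵖ
  haveI : IsFiltered α := inferInstance
  let E' : αᵒᵖ ⥤ Scheme.{u} := F.leftOp ⋙ E
  haveI : F.leftOp.Initial := inferInstance
  let cE : Cone E' := c.whisker F.leftOp
  have hcE : IsLimit cE := (Functor.Initial.isLimitWhiskerEquiv F.leftOp c).symm hc
  haveI : ∀ a : αᵒᵖ, IsAffine (E'.obj a) := fun a => inferInstanceAs (IsAffine (E.obj (F.obj a.unop).unop))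
  haveI : ∀ {a b : αᵒᵖ} (m : a ⟶ b), IsAffineHom (E'.map m) := fun m => isAffineHom_of_isAffine _
  let G : α → Type u := fun a => Γ(E.obj (F.obj a).unop, ⊤)
  let β : ∀ a, R ⟶ Γ(E.obj (F.obj a).unop, ⊤) := fun a => ringMap (ψ.app (F.obj a).unop)
  letI : ∀ a, Algebra R (G a) := fun a => (β a).hom.toAlgebra
  letI : Algebra R Γ(c.pt, ⊤) := (ringMap p).hom.toAlgebra
  have hψ : ∀ {i j : J} (m : i ⟶ j), E.map m ≫ ψ.app j = ψ.app i := fun m =>
    (ψ.naturality m).trans (Category.comp_id _)
  let g : ∀ a b, a ≤ b → G a →ₐ[R] G b := fun a b hab =>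
    { (E.map (F.map (homOfLE hab)).unop).appTop.hom with
      commutes' := fun x => by
        have h1 := ringMap_comp (E.map (F.map (homOfLE hab)).unop) (ψ.app (F.obj a).unop)
        rw [hψ] at h1
        exact (congr($(h1).hom x)).symm }
  let π : ∀ a, G a →ₐ[R] Γ(c.pt, ⊤) := fun a =>
    { (c.π.app (F.obj a).unop).appTop.hom with
      commutes' := fun x => by
        have h1 := ringMap_comp (c.π.app (F.obj a).unop) (ψ.app (F.obj a).unop)
        rw [hp] at h1
        exact (congr($(h1).hom x)).symm }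
  have hG : IsColim g π := by
    refine ⟨inferInstance, inferInstance, fun a x => ?_, fun a b d hab hbd x => ?_, fun a b h x => ?_,
      fun z => ?_, fun a x hx => ?_⟩
    · show (E.map (F.map (homOfLE (le_refl a))).unop).appTop x = x
      rw [show homOfLE (le_refl a) = 𝟙 a from Subsingleton.elim _ _, F.map_id, unop_id, E.map_id]
      rfl
    · show (E.map (F.map (homOfLE hbd)).unop).appTop ((E.map (F.map (homOfLE hab)).unop).appTop x) =
        (E.map (F.map (homOfLE (hab.trans hbd))).unop).appTop x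
      rw [show homOfLE (hab.trans hbd) = homOfLE hab ≫ homOfLE hbd from Subsingleton.elim _ _, F.map_comp,
        unop_comp, E.map_comp, Scheme.Hom.comp_appTop]
      rfl
    · show (c.π.app (F.obj b).unop).appTop ((E.map (F.map (homOfLE h)).unop).appTop x) =
        (c.π.app (F.obj a).unop).appTop x
      rw [← c.w (F.map (homOfLE h)).unop, Scheme.Hom.comp_appTop]
      rfl
    · obtain ⟨a, y, hy⟩ := exists_appTop_π_eq_of_isAffine_of_isLimit E' cE hcE z
      exact ⟨a.unop, y, hy⟩
    · obtain ⟨b, m, hm⟩ := exists_appTop_map_eq_zero_of_isLimit E' cE hcE (i := op a) x hx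
      refine ⟨b.unop, leOfHom m.unop, ?_⟩
      show (E.map (F.map (homOfLE (leOfHom m.unop))).unop).appTop x = 0
      rw [show homOfLE (leOfHom m.unop) = m.unop from Subsingleton.elim _ _]
      exact hm
  have key : ∀ {W : Scheme.{u}} [IsAffine W] (q : W ⟶ Spec R),
      letI := (ringMap q).hom.toAlgebra
      (k.Holds ((Scheme.Modules.pullback q).map ((tilde.functor R).map f)) ↔
        k.LinHolds (f.hom.lTensor Γ(W, ⊤))) := fun {W} _ q => by
    letI := (ringMap q).hom.toAlgebra
    rw [k.holds_pullback_tilde_iff q f]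
    cases k with
    | zero => exact ⟨fun h => LinearMap.ext fun t => LinearMap.congr_fun h t,
        fun h => LinearMap.ext fun t => LinearMap.congr_fun h t⟩
    | epi => exact Iff.rfl
    | iso => exact Iff.rfl
  obtain ⟨a, ha⟩ := k.exists_stage_lin hG f.hom hfin ((key p).1 h)
  exact ⟨(F.obj a).unop, (key (ψ.app (F.obj a).unop)).2 ha⟩

/-- Descent along a limit of affine schemes mapping into an affine open of `X`. -/
theorem Kind.exists_stage_chart (k : Kind) {J : Type u} [SmallCategory J] [IsCofiltered J] (E : J ⥤ Scheme.{u})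
    [∀ j, IsAffine (E.obj j)] (c : Cone E) (hc : IsLimit c) [IsAffine c.pt] {V : X.Opens} (hV : IsAffineOpen V)
    (ψ : E ⟶ (Functor.const J).obj (Spec Γ(X, V))) (p : c.pt ⟶ Spec Γ(X, V)) (hp : ∀ j, c.π.app j ≫ ψ.app j = p)
    {F G : X.Modules} (hF : Coh.IsQCoh F) (hG : Coh.IsQCoh G) (φ : F ⟶ G)
    (hfin : k.FinHyp Γ(X, V) Γ(F, V) Γ(G, V))
    (h : k.Holds ((Scheme.Modules.pullback (p ≫ hV.fromSpec)).map φ)) :
    ∃ j, k.Holds ((Scheme.Modules.pullback (ψ.app j ≫ hV.fromSpec)).map φ) := by
  let φ' : F.restrict hV.fromSpec ⟶ G.restrict hV.fromSpec := (Scheme.Modules.restrictFunctor hV.fromSpec).map φ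
  let f := moduleSpecΓFunctor.map φ'
  haveI : IsIso (F.restrict hV.fromSpec).fromTildeΓ :=
    (isQuasicoherent_iff_isIso_fromTildeΓ _).1 (QCoh.isQCoh_restrict hV.fromSpec hF)
  haveI : IsIso (G.restrict hV.fromSpec).fromTildeΓ :=
    (isQuasicoherent_iff_isIso_fromTildeΓ _).1 (QCoh.isQCoh_restrict hV.fromSpec hG)
  let e : Arrow.mk ((tilde.functor Γ(X, V)).map f) ≅ Arrow.mk ((Scheme.Modules.pullback hV.fromSpec).map φ) :=
    Arrow.isoMk' _ _
      (asIso (F.restrict hV.fromSpec).fromTildeΓ) (asIso (G.restrict hV.fromSpec).fromTildeΓ)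
      (Scheme.Modules.fromTildeΓNatTrans.naturality φ').symm ≪≫
    ((Functor.mapArrowFunctor _ _).mapIso (Scheme.Modules.restrictFunctorIsoPullback hV.fromSpec)).app (Arrow.mk φ)
  let eF : Γ(F, V) ≃ₗ[Γ(X, V)] moduleSpecΓFunctor.obj (F.restrict hV.fromSpec) := LinearEquiv.ofBijective
    { toFun := QCoh.toChart hV F, map_add' := QCoh.toChart_add hV F, map_smul' := fun r x => QCoh.toChart_smul hV F r x }
    (QCoh.bijective_toChart hV F)
  let eG : Γ(G, V) ≃ₗ[Γ(X, V)] moduleSpecΓFunctor.obj (G.restrict hV.fromSpec) := LinearEquiv.ofBijective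
    { toFun := QCoh.toChart hV G, map_add' := QCoh.toChart_add hV G, map_smul' := fun r x => QCoh.toChart_smul hV G r x }
    (QCoh.bijective_toChart hV G)
  have hfin' : k.FinHyp Γ(X, V) (moduleSpecΓFunctor.obj (F.restrict hV.fromSpec))
      (moduleSpecΓFunctor.obj (G.restrict hV.fromSpec)) := by
    cases k with
    | zero => haveI : Module.Finite Γ(X, V) Γ(F, V) := hfin; exact Module.Finite.equiv eF
    | epi => haveI : Module.Finite Γ(X, V) Γ(G, V) := hfin; exact Module.Finite.equiv eG
    | iso =>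
      haveI : Module.Finite Γ(X, V) Γ(F, V) := hfin.1
      haveI : Module.FinitePresentation Γ(X, V) Γ(G, V) := hfin.2
      exact ⟨Module.Finite.equiv eF, Module.finitePresentation_of_surjective eG.toLinearMap eG.surjective
        (by rw [LinearEquiv.ker]; exact Submodule.fg_bot)⟩
  have key : ∀ {W : Scheme.{u}} (q : W ⟶ Spec Γ(X, V)),
      k.Holds ((Scheme.Modules.pullback (q ≫ hV.fromSpec)).map φ) ↔
        k.Holds ((Scheme.Modules.pullback q).map ((tilde.functor Γ(X, V)).map f)) := fun {W} q =>
    k.holds_iff_of_arrowIso ((pullbackCompArrow q hV.fromSpec φ).symm ≪≫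
      (Scheme.Modules.pullback q).mapArrow.mapIso e.symm)
  obtain ⟨j, hj⟩ := k.exists_stage_tilde E c hc ψ p hp f hfin' ((key p).1 h)
  exact ⟨j, (key _).2 hj⟩

end Groth.Agent.FlatLimHx
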