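import Mathlib
import Groth.Prelude.Def_FlatCA

/-!
Properties of a base changed map of modules descend to a stage of a directed colimit of rings.
-/

set_option autoImplicit false
set_option maxHeartbeats 1000000
set_option linter.style.haveILetI false

universe u

namespace Groth.Agent.FlatLimHx

open TensorProduct

variable {R : Type u} [CommRing R] {ι : Type u} [Preorder ι] {G : ι → Type u} [∀ i, CommRing (G i)]
  [∀ i, Algebra R (G i)] (g : ∀ i j, i ≤ j → G i →ₐ[R] G j) {A : Type u} [CommRing A] [Algebra R A]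
  (a : ∀ i, G i →ₐ[R] A)

/-- `A` is the directed colimit of the `G i`. -/
structure IsColim : Prop where
  dir : IsDirected ι (· ≤ ·)
  ne : Nonempty ι
  self : ∀ i x, g i i le_rfl x = x
  comp : ∀ i j k (hij : i ≤ j) (hjk : j ≤ k) x, g j k hjk (g i j hij x) = g i k (hij.trans hjk) x
  compat : ∀ i j (h : i ≤ j) x, a j (g i j h x) = a i x
  surj : ∀ y, ∃ i x, a i x = y
  zero : ∀ i x, a i x = 0 → ∃ j, ∃ h : i ≤ j, g i j h x = 0

variable {g a}

theorem IsColim.upper (h : IsColim g a) {κ : Type*} (s : Finset κ) (f : κ → ι) :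
    ∃ j, ∀ k ∈ s, f k ≤ j := by
  classical
  haveI := h.dir
  haveI := h.ne
  obtain ⟨j, hj⟩ := Finset.exists_le (s.image f)
  exact ⟨j, fun k hk => hj _ (Finset.mem_image_of_mem f hk)⟩

variable (N : Type u) [AddCommGroup N] [Module R N]

/-- Every element of `A ⊗ N` comes from a stage. -/
theorem IsColim.exists_tensor (h : IsColim g a) (z : A ⊗[R] N) :
    ∃ i, ∃ w : G i ⊗[R] N, (a i).toLinearMap.rTensor N w = z := by
  haveI := h.dir
  induction z with
  | zero => obtain ⟨i⟩ := h.ne; exact ⟨i, 0, map_zero _⟩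
  | tmul y n =>
    obtain ⟨i, x, rfl⟩ := h.surj y
    exact ⟨i, x ⊗ₜ n, rfl⟩
  | add z z' hz hz' =>
    obtain ⟨i, w, rfl⟩ := hz
    obtain ⟨i', w', rfl⟩ := hz'
    obtain ⟨j, hij, hi'j⟩ := directed_of (· ≤ ·) i i'
    refine ⟨j, (g i j hij).toLinearMap.rTensor N w + (g i' j hi'j).toLinearMap.rTensor N w', ?_⟩
    rw [map_add, ← LinearMap.rTensor_comp_apply, ← LinearMap.rTensor_comp_apply,
      show (a j).toLinearMap ∘ₗ (g i j hij).toLinearMap = (a i).toLinearMap from
        LinearMap.ext (h.compat i j hij),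
      show (a j).toLinearMap ∘ₗ (g i' j hi'j).toLinearMap = (a i').toLinearMap from
        LinearMap.ext (h.compat i' j hi'j)]

/-- An element of a stage vanishing in `A ⊗ N` vanishes at a later stage. -/
theorem IsColim.exists_eq_zero (h : IsColim g a) {i : ι} (w : G i ⊗[R] N)
    (hw : (a i).toLinearMap.rTensor N w = 0) :
    ∃ j, ∃ hij : i ≤ j, (g i j hij).toLinearMap.rTensor N w = 0 := by
  classical
  haveI := h.dir
  haveI := h.ne
  let f : ∀ i j, i ≤ j → G i →ₗ[R] G j := fun i j hij => (g i j hij).toLinearMap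
  haveI : DirectedSystem G (f · · ·) := ⟨fun i x => h.self i x, fun _ _ _ hij hjk x => h.comp _ _ _ hij hjk x⟩
  let L : Module.DirectLimit G f →ₗ[R] A :=
    Module.DirectLimit.lift R ι G f (fun i => (a i).toLinearMap) fun i j hij x => h.compat i j hij x
  have hLi : Function.Injective L := by
    rw [injective_iff_map_eq_zero]
    intro z hz
    obtain ⟨k, x, rfl⟩ := Module.DirectLimit.exists_of z
    replace hz : a k x = 0 := (Module.DirectLimit.lift_of _ _ _).symm.trans hz
    obtain ⟨j, hkj, hj⟩ := h.zero k x hz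
    rw [← Module.DirectLimit.of_f (hij := hkj), show f k j hkj x = 0 from hj, map_zero]
  have hLs : Function.Surjective L := fun y => by
    obtain ⟨k, x, rfl⟩ := h.surj y
    exact ⟨Module.DirectLimit.of R ι G f k x, Module.DirectLimit.lift_of _ _ _⟩
  let e : Module.DirectLimit G f ≃ₗ[R] A := LinearEquiv.ofBijective L ⟨hLi, hLs⟩
  have h1 : (Module.DirectLimit.of R ι G f i).rTensor N w = 0 := by
    apply (LinearEquiv.rTensor N e).injective
    rw [map_zero, ← hw]
    show e.toLinearMap.rTensor N _ = _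
    rw [← LinearMap.rTensor_comp_apply]
    congr 2
    exact LinearMap.ext fun x => show L (Module.DirectLimit.of R ι G f i x) = _ from
      Module.DirectLimit.lift_of _ _ _
  have h2 := congrArg (TensorProduct.directLimitLeft f N) h1
  rw [map_zero, TensorProduct.directLimitLeft_rTensor_of] at h2
  exact Module.DirectLimit.of.zero_exact h2

variable {N} {M : Type u} [AddCommGroup M] [Module R M] (φ : M →ₗ[R] N)

/-- Vanishing descends. -/
theorem IsColim.exists_zero (h : IsColim g a) [Module.Finite R M] (hφ : φ.lTensor A = 0) :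
    ∃ j, φ.lTensor (G j) = 0 := by
  classical
  obtain ⟨s, hs⟩ := (inferInstance : Module.Finite R M).fg_top
  obtain ⟨i₀⟩ := h.ne
  have hz : ∀ m : M, ∃ j, ∀ k, j ≤ k → ((1 : G k) ⊗ₜ[R] φ m) = 0 := by
    intro m
    obtain ⟨j, hij, hj⟩ := h.exists_eq_zero N ((1 : G i₀) ⊗ₜ[R] φ m) (by
      simpa using LinearMap.congr_fun hφ ((1 : A) ⊗ₜ[R] m))
    refine ⟨j, fun k hk => ?_⟩
    have := congrArg ((g j k hk).toLinearMap.rTensor N) hj
    simpa using this
  choose b hb using hz
  obtain ⟨j, hj⟩ := h.upper s b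
  refine ⟨j, TensorProduct.ext' fun c m => ?_⟩
  have hm : m ∈ Submodule.span R (s : Set M) := hs ▸ trivial
  rw [LinearMap.lTensor_tmul, LinearMap.zero_apply]
  induction hm using Submodule.span_induction with
  | mem m hm =>
    rw [show c ⊗ₜ[R] φ m = c • ((1 : G j) ⊗ₜ[R] φ m) by rw [TensorProduct.smul_tmul', smul_eq_mul, mul_one],
      hb m j (hj m hm), smul_zero]
  | zero => simp
  | add m m' _ _ hm hm' => rw [map_add, tmul_add, hm, hm', add_zero]
  | smul r m _ hm => rw [map_smul, tmul_smul, hm, smul_zero]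

theorem rTensor_lTensor (φ : M →ₗ[R] N) {P Q : Type u} [AddCommGroup P] [Module R P] [AddCommGroup Q] [Module R Q]
    (f : P →ₗ[R] Q) (w : P ⊗[R] M) : f.rTensor N (φ.lTensor P w) = φ.lTensor Q (f.rTensor M w) := by
  induction w with
  | zero => simp
  | tmul p m => simp
  | add x y hx hy => simp only [map_add, hx, hy]

/-- Surjectivity descends. -/
theorem IsColim.exists_surjective (h : IsColim g a) [Module.Finite R N]
    (hφ : Function.Surjective (φ.lTensor A)) :
    ∃ j, ∀ k, j ≤ k → Function.Surjective (φ.lTensor (G k)) := by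
  classical
  haveI := h.dir
  obtain ⟨s, hs⟩ := (inferInstance : Module.Finite R N).fg_top
  have hn : ∀ n : N, ∃ j, ∀ k, j ≤ k → ((1 : G k) ⊗ₜ[R] n) ∈ LinearMap.range (φ.lTensor (G k)) := by
    intro n
    obtain ⟨z, hz⟩ := hφ ((1 : A) ⊗ₜ[R] n)
    obtain ⟨i, w, rfl⟩ := h.exists_tensor M z
    obtain ⟨j, hij, hj⟩ := h.exists_eq_zero N (φ.lTensor (G i) w - (1 : G i) ⊗ₜ[R] n) (by
      rw [map_sub, rTensor_lTensor, hz]; simp)
    refine ⟨j, fun k hk => ⟨((g j k hk).toLinearMap.rTensor M) ((g i j hij).toLinearMap.rTensor M w), ?_⟩⟩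
    rw [← rTensor_lTensor, ← rTensor_lTensor]
    have h1 := congrArg ((g j k hk).toLinearMap.rTensor N) hj
    rw [map_zero, map_sub, map_sub, sub_eq_zero] at h1
    rw [h1]
    simp
  choose b hb using hn
  obtain ⟨j, hj⟩ := h.upper s b
  refine ⟨j, fun k hk => ?_⟩
  rw [← LinearMap.range_eq_top, eq_top_iff]
  rintro z -
  induction z with
  | zero => exact zero_mem _
  | add x y hx hy => exact add_mem hx hy
  | tmul c n =>
    have hn : n ∈ Submodule.span R (s : Set N) := hs ▸ trivial
    induction hn using Submodule.span_induction with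
    | mem n hn =>
      obtain ⟨w, hw⟩ := hb n k ((hj n hn).trans hk)
      refine ⟨(LinearMap.mulLeft R c).rTensor M w, ?_⟩
      rw [← rTensor_lTensor, hw]
      simp
    | zero => simp
    | add m m' _ _ hm hm' => rw [tmul_add]; exact add_mem hm hm'
    | smul r m _ hm => rw [tmul_smul]; exact Submodule.smul_mem _ r hm

theorem injective_lTensor_of_ker {A : Type u} [CommRing A] {P Q : Type u} [AddCommGroup P] [Module A P]
    [AddCommGroup Q] [Module A Q] (f : P →ₗ[A] Q) (hf : Function.Surjective f) (C : Type u) [AddCommGroup C]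
    [Module A C] (h : (LinearMap.ker f).subtype.lTensor C = 0) : Function.Injective (f.lTensor C) := by
  rw [injective_iff_map_eq_zero]
  intro z hz
  obtain ⟨z', rfl⟩ := (lTensor_exact C (LinearMap.exact_subtype_ker_map f) hf z).1 hz
  rw [h, LinearMap.zero_apply]

/-- Bijectivity descends. -/
theorem IsColim.exists_bijective (h : IsColim g a) [Module.Finite R M] [Module.FinitePresentation R N]
    (hφ : Function.Bijective (φ.lTensor A)) :
    ∃ j, Function.Bijective (φ.lTensor (G j)) := by
  classical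
  haveI := h.dir
  obtain ⟨j₁, hj₁⟩ := h.exists_surjective φ hφ.2
  -- present `N`; at stage `j₁` the kernel of the surjection is finitely generated
  haveI : Module.Finite (G j₁) (G j₁ ⊗[R] M) := inferInstance
  haveI : Module.FinitePresentation (G j₁) (G j₁ ⊗[R] N) := inferInstance
  obtain ⟨t, ht⟩ := Module.FinitePresentation.fg_ker (φ.baseChange (G j₁)) (hj₁ j₁ le_rfl)
  have hker : ∀ w ∈ t, φ.lTensor (G j₁) w = 0 := fun w hw =>
    LinearMap.mem_ker.1 (ht.le (Submodule.subset_span hw))
  have hb : ∀ w : G j₁ ⊗[R] M, ∃ j, w ∈ t → ∀ k (hk : j ≤ k) (h1k : j₁ ≤ k),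
      (g j₁ k h1k).toLinearMap.rTensor M w = 0 := by
    intro w
    by_cases hw : w ∈ t
    · obtain ⟨j, hij, hj⟩ := h.exists_eq_zero M w (hφ.1 (by
        rw [← rTensor_lTensor, hker w hw, map_zero, map_zero]))
      refine ⟨j, fun _ k hk h1k => ?_⟩
      have h1 := congrArg ((g j k hk).toLinearMap.rTensor M) hj
      rw [map_zero, ← LinearMap.rTensor_comp_apply] at h1
      rwa [show (g j k hk).toLinearMap ∘ₗ (g j₁ j hij).toLinearMap = (g j₁ k h1k).toLinearMap from
        LinearMap.ext fun x => h.comp _ _ _ hij hk x] at h1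
    · exact ⟨j₁, fun hw' => absurd hw' hw⟩
  choose b hb using hb
  obtain ⟨j₂, hj₂⟩ := h.upper t b
  obtain ⟨k, h1k, h2k⟩ := directed_of (· ≤ ·) j₁ j₂
  letI : Algebra (G j₁) (G k) := (g j₁ k h1k).toRingHom.toAlgebra
  haveI : IsScalarTower R (G j₁) (G k) := IsScalarTower.of_algebraMap_eq fun r => ((g j₁ k h1k).commutes r).symm
  -- transition to stage `k`
  let eM := AlgebraTensorModule.cancelBaseChange R (G j₁) (G j₁) (G k) M
  let eN := AlgebraTensorModule.cancelBaseChange R (G j₁) (G j₁) (G k) N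
  let q : (G k) ⊗[G j₁] (LinearMap.ker (φ.baseChange (G j₁))) →ₗ[G j₁] (G k) ⊗[G j₁] (G j₁ ⊗[R] M) :=
    (LinearMap.ker (φ.baseChange (G j₁))).subtype.lTensor (G k)
  have hq : q = 0 := by
    refine TensorProduct.ext' fun c x => ?_
    obtain ⟨x, hx⟩ := x
    apply eM.injective
    rw [LinearMap.zero_apply, map_zero]
    show eM (c ⊗ₜ x) = 0
    rw [← ht] at hx
    induction hx using Submodule.span_induction with
    | mem w hw =>
      have h0 := hb w hw k ((hj₂ w hw).trans h2k) h1k
      have e : ∀ w : G j₁ ⊗[R] M, eM (c ⊗ₜ w) = (LinearMap.mulLeft R c).rTensor M ((g j₁ k h1k).toLinearMap.rTensor M w) := by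
        intro w
        induction w with
        | zero => simp
        | tmul x m => simp [eM, Algebra.smul_def, RingHom.algebraMap_toAlgebra, mul_comm]
        | add x y hx hy => simp only [TensorProduct.tmul_add, map_add, hx, hy]
      rw [e, h0, map_zero]
    | zero => simp
    | add x y _ _ hx hy => rw [TensorProduct.tmul_add, map_add, hx, hy, add_zero]
    | smul r x _ hx => rw [TensorProduct.tmul_smul, map_smul, hx, smul_zero]
  refine ⟨k, ?_, hj₁ k h1k⟩
  have hinj : Function.Injective ((φ.baseChange (G j₁)).lTensor (G k)) :=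
    injective_lTensor_of_ker (φ.baseChange (G j₁)) (hj₁ j₁ le_rfl) (G k) hq
  have hnat : ∀ z : (G k) ⊗[G j₁] (G j₁ ⊗[R] M),
      φ.lTensor (G k) (eM z) = eN ((φ.baseChange (G j₁)).lTensor (G k) z) := by
    intro z
    induction z with
    | zero => simp
    | add x y hx hy => simp only [map_add, hx, hy]
    | tmul c w =>
      induction w with
      | zero => simp
      | add x y hx hy => simp only [TensorProduct.tmul_add, map_add, hx, hy]
      | tmul x m => simp [eM, eN]
  rw [injective_iff_map_eq_zero]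
  intro y hy
  obtain ⟨z, rfl⟩ := eM.surjective y
  rw [hnat, LinearEquiv.map_eq_zero_iff] at hy
  rw [hinj (hy.trans (map_zero _).symm), map_zero]

end Groth.Agent.FlatLimHx
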