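import Groth.Agent.FlatLimHx.Flat
import Groth.Agent.FlatHpHx.Limit
import Groth.Agent.FibDim.Semicont
import Groth.Agent.S4863

/-!
The functor "flat in dimensions `≥ n`" is limit preserving.
-/

set_option autoImplicit false
set_option linter.style.haveILetI false
set_option backward.isDefEq.respectTransparency false
set_option maxHeartbeats 1000000
set_option linter.unusedSectionVars false

universe u

open CategoryTheory CategoryTheory.Limits AlgebraicGeometry TopologicalSpace Opposite TensorProduct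

namespace Groth.Agent.FlatLimHx

/-- Flatness on an affine piece descends to a stage. -/
theorem exists_flat_stage_affine {I : Type u} [SmallCategory I] [IsCofiltered I] (D : I ⥤ Scheme.{u})
    [∀ i, IsAffine (D.obj i)] (c : Cone D) (hc : IsLimit c) [IsAffine c.pt] (i₀ : I) {B : CommRingCat.{u}}
    (xi : Spec B ⟶ D.obj i₀) [LocallyOfFinitePresentation xi] (G : (Spec B).Modules) (hG : CohB1.IsFP G)
    (h : FlatMod.IsFlatOver (pullback.snd xi (c.π.app i₀))
      ((Scheme.Modules.pullback (pullback.fst xi (c.π.app i₀))).obj G)) :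
    ∃ j : Over i₀, FlatMod.IsFlatOver (pullback.snd xi (D.map j.hom))
      ((Scheme.Modules.pullback (pullback.fst xi (D.map j.hom))).obj G) := by
  have hq := QCoh.isQCoh_of_isFP hG
  haveI : IsIso G.fromTildeΓ := (isQuasicoherent_iff_isIso_fromTildeΓ _).1 hq
  let M := moduleSpecΓFunctor.obj G
  haveI : Module.FinitePresentation B M := (QCoh.isFP_iff_finitePresentation G hq).1 hG
  let eM : G ≅ tilde M := (asIso G.fromTildeΓ).symm
  have key : ∀ {T : Scheme.{u}} (g : T ⟶ D.obj i₀),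
      FlatMod.IsFlatOver (pullback.snd xi g) ((Scheme.Modules.pullback (pullback.fst xi g)).obj G) ↔
        FlatMod.IsFlatOver (pullback.snd xi g) ((Scheme.Modules.pullback (pullback.fst xi g)).obj (tilde M)) :=
    fun g => isFlatOver_congr _ ((Scheme.Modules.pullback (pullback.fst xi g)).mapIso eM)
  let β := Spec.preimage (xi ≫ (D.obj i₀).isoSpec.hom)
  letI : Algebra Γ(D.obj i₀, ⊤) B := β.hom.toAlgebra
  letI : Module Γ(D.obj i₀, ⊤) M := Module.compHom M β.hom
  haveI : IsScalarTower Γ(D.obj i₀, ⊤) B M := IsScalarTower.of_algebraMap_smul fun _ _ => rfl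
  haveI : Algebra.FinitePresentation Γ(D.obj i₀, ⊤) B := by
    have h1 : LocallyOfFinitePresentation (Spec.map β) := by
      rw [Spec.map_preimage]; infer_instance
    exact (HasRingHomProperty.Spec_iff (P := @LocallyOfFinitePresentation)).1 h1
  letI : Algebra Γ(D.obj i₀, ⊤) Γ(c.pt, ⊤) := (c.π.app i₀).appTop.hom.toAlgebra
  haveI : IsAffine (((Functor.const I).obj c.pt).obj i₀) := ‹IsAffine c.pt›
  obtain ⟨α, _, jf, g, htow, hcol⟩ := exists_colimRing D c hc i₀
  letI : ∀ a, Algebra Γ(D.obj i₀, ⊤) Γ(D.obj (jf a).left, ⊤) := fun a => (D.map (jf a).hom).appTop.hom.toAlgebra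
  letI : ∀ a, Algebra Γ(D.obj (jf a).left, ⊤) Γ(c.pt, ⊤) := fun a => (c.π.app (jf a).left).appTop.hom.toAlgebra
  haveI := htow
  obtain ⟨j, hj⟩ := FlatSyz5.exists_flat_stage (B₀ := B) (fun a => Γ(D.obj (jf a).left, ⊤)) g Γ(c.pt, ⊤) hcol M
    ((flat_piece_iff xi (c.π.app i₀) M).1 ((key _).1 h))
  exact ⟨jf j, (key _).2 ((flat_piece_iff xi (D.map (jf j).hom) M).2 hj)⟩

section Dim

variable {Y T : Scheme.{u}} (q : Y ⟶ T) [LocallyOfFiniteType q]

/-- The points of a closed set which lie on a piece of the fibre of dimension `≥ n` form a closed set. -/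
theorem isClosed_bigLocus {Z : Set Y} (hZ : IsClosed Z) (n : ℕ) :
    IsClosed {x : Y | x ∈ Z ∧ ∃ z ∈ Z, z ⤳ x ∧ q z = q x ∧ n ≤ FibDim.rd q z} := by
  cases n with
  | zero =>
    convert! hZ using 1
    ext x
    exact ⟨fun h => h.1, fun h => ⟨h, x, h, specializes_rfl, rfl, Nat.zero_le _⟩⟩
  | succ n =>
    rw [← isOpen_compl_iff, isOpen_iff_forall_mem_open]
    intro x hx
    by_cases hxZ : x ∈ Z
    swap
    · exact ⟨Zᶜ, fun y hy h => hy h.1, hZ.isOpen_compl, hxZ⟩
    haveI : IsLocallyNoetherian (q.fiber (q x)) :=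
      LocallyOfFiniteType.isLocallyNoetherian (q.fiberToSpecResidueField (q x))
    obtain ⟨W, hxW, hW⟩ := FibDim.exists_nhd_generizing (hZ.preimage (q.fiberι (q x)).continuous) (q.asFiber x)
    obtain ⟨W', hW', hWW'⟩ := (q.fiberι (q x)).isEmbedding.isInducing.isOpen_iff.mp W.isOpen
    have hxW' : x ∈ W' := by
      have : q.asFiber x ∈ (q.fiberι (q x)) ⁻¹' W' := hWW'.symm ▸ hxW
      simpa [Scheme.Hom.fiberι_asFiber] using this
    have hdim : topologicalKrullDim ↥(W' ∩ Z ∩ q ⁻¹' {q x}) ≤ n := by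
      refine (FibDim.dim_inter_le_iff q _ hW' hZ _).2 fun w h1 h2 h3 => ?_
      obtain ⟨w', rfl⟩ : w ∈ Set.range (q.fiberι (q x)) := by rw [Scheme.Hom.range_fiberι]; exact h3
      obtain ⟨η, hη, hηx, hηw⟩ := hW w' (hWW'.le h1) h2
      have hfη : q (q.fiberι (q x) η) = q x := by
        have : q.fiberι (q x) η ∈ Set.range (q.fiberι (q x)) := ⟨η, rfl⟩
        rw [Scheme.Hom.range_fiberι] at this
        exact this
      refine le_trans (FibDim.rd_le_of_specializes q (hηw.map (q.fiberι (q x)).continuous)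
        (hfη.trans h3.symm)) (Nat.lt_succ_iff.1 (Nat.lt_of_not_le fun hn => hx ⟨hxZ, _, hη, ?_, hfη, hn⟩))
      have := hηx.map (q.fiberι (q x)).continuous
      rwa [Scheme.Hom.fiberι_asFiber] at this
    obtain ⟨U, hU, hxU, -, hUb⟩ := FibDim.exists_open_dim_le q hW' hZ hxW' hxZ n hdim
    refine ⟨U, fun y hy h => ?_, hU, hxU⟩
    obtain ⟨-, z, hz, hzy, hqz, hn⟩ := h
    have := (FibDim.dim_inter_le_iff q _ hU hZ _).1 (hUb (q y)) z (hzy.mem_open hU hy) hz hqz
    omega

end Dim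

variable {X S : Scheme.{u}} (f : X ⟶ S) [LocallyOfFinitePresentation f] (F : X.Modules) [Coh.IsQCoh F]

instance locallyOfFinitePresentation_XTproj (T : Over S) : LocallyOfFinitePresentation (PicF.XTproj f T) :=
  MorphismProperty.of_isPullback (IsPullback.of_hasPullback f T.hom) ‹_›

/-- The flat locus. -/
theorem isOpen_flatAt (hF : CohB1.IsFP F) (T : Over S) :
    IsOpen {x | FlatMod.IsFlatOverAt (PicF.XTproj f T) (FGA.ET f F T) x} :=
  haveI : Coh.IsQCoh (FGA.ET f F T) := QCoh.isQCoh_pullback _ ‹Coh.IsQCoh F›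
  Groth.Agent.S4863.result _ _ (FlatHpHx.isFP_pullback _ hF)

/-- The pieces of `F_T`. -/
noncomputable def pieceIso {T₀ T : Over S} (g : T ⟶ T₀) {W : (PicF.XT f T₀).Opens} (hW : IsAffineOpen W) :
    (Scheme.Modules.pullback (piece f g hW)).obj (FGA.ET f F T) ≅
      (Scheme.Modules.pullback (pullback.fst (hW.fromSpec ≫ PicF.XTproj f T₀) g.left)).obj
        ((Scheme.Modules.pullback hW.fromSpec).obj (FGA.ET f F T₀)) :=
  (Scheme.Modules.pullback (piece f g hW)).mapIso (FlatFunHx.ETIso f F g).symm ≪≫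
    (Scheme.Modules.pullbackComp _ _).app _ ≪≫ (Scheme.Modules.pullbackCongr (isPullback_piece f g hW).w).app _ ≪≫
    ((Scheme.Modules.pullbackComp _ _).app _).symm

variable {I : Type u} [SmallCategory I] [IsCofiltered I] {D : I ⥤ Over S} {c : Cone D}

/-- A point of flatness at the limit is one at some stage. -/
theorem exists_stage_flatAt (hF : CohB1.IsFP F) (hc : IsLimit ((Over.forget S).mapCone c))
    (hD : ∀ i, IsAffine (D.obj i).left) (hT : IsAffine c.pt.left) (x : PicF.XT f c.pt)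
    (hx : FlatMod.IsFlatOverAt (PicF.XTproj f c.pt) (FGA.ET f F c.pt) x) :
    ∃ j, FlatMod.IsFlatOverAt (PicF.XTproj f (D.obj j)) (FGA.ET f F (D.obj j)) (PicF.XTmap f (c.π.app j) x) := by
  haveI : ∀ i, IsAffine ((D ⋙ Over.forget S).obj i) := hD
  haveI : IsAffine ((Over.forget S).mapCone c).pt := hT
  haveI : ∀ {i j} (m : i ⟶ j), IsAffineHom ((FlatHpHx.XTfunctor f D).map m) := fun {i j} m => by
    haveI := hD i
    haveI := hD j
    exact MorphismProperty.of_isPullback (FlatFunHx.isPullback_XTmap f (D.map m)).flip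
      (isAffineHom_of_isAffine (D.map m).left)
  obtain ⟨hXc⟩ := FlatHpHx.isLimit_XTcone f D hc
  obtain ⟨_, ⟨_, ⟨k, W, hW, rfl⟩, rfl⟩, hxW, hsub⟩ :=
    (isBasis_preimage_isAffineOpen _ _ hXc).exists_subset_of_mem_open hx (isOpen_flatAt f F hF c.pt)
  replace hxW : PicF.XTmap f (c.π.app k) x ∈ W := hxW
  let π : c.pt ⟶ D.obj k := c.π.app k
  obtain ⟨j, hj⟩ := exists_flat_stage_affine (D ⋙ Over.forget S) ((Over.forget S).mapCone c) hc k
    (hW.fromSpec ≫ PicF.XTproj f (D.obj k)) ((Scheme.Modules.pullback hW.fromSpec).obj (FGA.ET f F (D.obj k)))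
    (FlatHpHx.isFP_pullback _ (FlatHpHx.isFP_pullback _ hF)) (by
      intro o
      refine GrFlat5.isFlatOverAt_of_iso _ (pieceIso f F π hW) o ?_
      rw [show pullback.snd (hW.fromSpec ≫ PicF.XTproj f (D.obj k)) ((Over.forget S).mapCone c |>.π.app k) =
        piece f π hW ≫ PicF.XTproj f c.pt from (piece_snd f π hW).symm]
      refine FlatFunHx.isFlatOverAt_pullback_of_flat _ (piece f π hW) _ o (Flat.stalkMap _ o) (hsub ?_)
      show (piece f π hW ≫ PicF.XTmap f π) o ∈ W
      rw [(isPullback_piece f π hW).w, Scheme.Hom.comp_apply]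
      exact hW.range_fromSpec.le ⟨_, rfl⟩)
  let m : D.obj j.left ⟶ D.obj k := D.map j.hom
  obtain ⟨w, hw⟩ : PicF.XTmap f m (PicF.XTmap f (c.π.app j.left) x) ∈ Set.range hW.fromSpec := by
    rw [hW.range_fromSpec, ← Scheme.Hom.comp_apply]
    exact (congrArg (fun φ : (FlatHpHx.XTcone f D c).pt ⟶ (FlatHpHx.XTfunctor f D).obj k => φ x)
      ((FlatHpHx.XTcone f D c).w j.hom)).symm ▸ hxW
  obtain ⟨o, ho, -⟩ := Scheme.exists_preimage_of_isPullback (isPullback_piece f m hW) _ w hw.symm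
  refine ⟨j.left, ?_⟩
  rw [← ho]
  haveI : Flat (piece f m hW) := inferInstance
  refine isFlatOverAt_of_pullback _ (piece f m hW) _ o (GrFlat5.isFlatOverAt_of_iso _ (pieceIso f F m hW).symm o ?_)
  rw [piece_snd]
  exact hj o

/-- The functor `F_n` is limit preserving. -/
theorem isLimitPreserving_dimFlatAt [QuasiCompact f] (hF : CohB1.IsFP F) (n : ℕ) :
    AlgSp.IsLimitPreserving (FlatFun.genPSp S (FlatFunHx.DimFlatAt f F n)) := by
  classical
  refine isLimitPreserving_genPSp _ (fun _ _ g h => FlatFunHx.dimFlatAt_of_hom f F n g h)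
    fun I _ _ D c hc hD hT h => ?_
  by_contra hno
  push Not at hno
  haveI : ∀ {i j} (m : i ⟶ j), IsAffineHom ((FlatHpHx.XTfunctor f D).map m) := fun {i j} m => by
    haveI := hD i
    haveI := hD j
    exact MorphismProperty.of_isPullback (FlatFunHx.isPullback_XTmap f (D.map m)).flip
      (isAffineHom_of_isAffine (D.map m).left)
  obtain ⟨hXc⟩ := FlatHpHx.isLimit_XTcone f D hc
  let Z : ∀ i, Set (PicF.XT f (D.obj i)) := fun i =>
    {x | ¬ FlatMod.IsFlatOverAt (PicF.XTproj f (D.obj i)) (FGA.ET f F (D.obj i)) x}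
  have hZ : ∀ i, IsClosed (Z i) := fun i => (isOpen_flatAt f F hF (D.obj i)).isClosed_compl
  let C : ∀ i, Set (PicF.XT f (D.obj i)) := fun i =>
    {x | x ∈ Z i ∧ ∃ z ∈ Z i, z ⤳ x ∧ PicF.XTproj f (D.obj i) z = PicF.XTproj f (D.obj i) x ∧
      n ≤ FibDim.rd (PicF.XTproj f (D.obj i)) z}
  have hproj : ∀ {T' T : Over S} (g : T' ⟶ T) (y : PicF.XT f T'),
      PicF.XTproj f T (PicF.XTmap f g y) = g.left (PicF.XTproj f T' y) := fun g y => by
    rw [← Scheme.Hom.comp_apply, (FlatFunHx.isPullback_XTmap f g).w, Scheme.Hom.comp_apply]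
  obtain ⟨s, hs⟩ := exists_mem_of_isClosed_of_nonempty (FlatHpHx.XTfunctor f D) (FlatHpHx.XTcone f D c) hXc C
    (fun i => isClosed_bigLocus (PicF.XTproj f (D.obj i)) (hZ i) n) (fun i => by
      have := hno i
      rw [FlatFunHx.DimFlatAt, FlatFunHx.dimFibresLT_iff] at this
      push Not at this
      obtain ⟨z, hz, hn⟩ := this
      exact ⟨z, hz, z, hz, specializes_rfl, rfl, hn⟩) (fun i => by
      haveI := hD i
      haveI : QuasiCompact (PicF.XTproj f (D.obj i)) :=
        MorphismProperty.of_isPullback (IsPullback.of_hasPullback f (D.obj i).hom) ‹QuasiCompact f›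
      haveI : CompactSpace (PicF.XT f (D.obj i)) :=
        QuasiCompact.compactSpace_of_compactSpace (PicF.XTproj f (D.obj i))
      exact (isClosed_bigLocus (PicF.XTproj f (D.obj i)) (hZ i) n).isCompact) (fun {i i'} m y hy => by
      obtain ⟨hyZ, z, hz, hzy, hqz, hn⟩ := hy
      refine ⟨fun hc => hyZ (FlatFunHx.flatAt_of_hom f F (D.map m) y hc), PicF.XTmap f (D.map m) z,
        fun hc => hz (FlatFunHx.flatAt_of_hom f F (D.map m) z hc),
        hzy.map (PicF.XTmap f (D.map m)).continuous, ?_,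
        hn.trans (FibDim.rd_baseChange_le (FlatFunHx.isPullback_XTmap f (D.map m)) z)⟩
      show PicF.XTproj f (D.obj i') (PicF.XTmap f (D.map m) z) =
        PicF.XTproj f (D.obj i') (PicF.XTmap f (D.map m) y)
      rw [hproj, hproj, hqz])
  let q := PicF.XTproj f c.pt
  let t := q s
  haveI : QuasiCompact q :=
    MorphismProperty.of_isPullback (IsPullback.of_hasPullback f c.pt.hom) ‹QuasiCompact f›
  haveI : LocallyOfFiniteType q := inferInstance
  haveI : IsLocallyNoetherian (q.fiber t) :=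
    LocallyOfFiniteType.isLocallyNoetherian (q.fiberToSpecResidueField t)
  haveI : CompactSpace (q.fiber t) := inferInstance
  haveI : AlgebraicGeometry.IsNoetherian (q.fiber t) := {}
  let A : Set (q.fiber t) := {y | FlatMod.IsFlatOverAt q (FGA.ET f F c.pt) (q.fiberι t y)}
  let O : I → Set (q.fiber t) := fun i => {y | FlatMod.IsFlatOverAt (PicF.XTproj f (D.obj i))
    (FGA.ET f F (D.obj i)) (PicF.XTmap f (c.π.app i) (q.fiberι t y))}
  obtain ⟨Fs, hFs⟩ := (NoetherianSpace.isCompact A).elim_finite_subcover O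
    (fun i => (isOpen_flatAt f F hF (D.obj i)).preimage
      ((q.fiberι t ≫ PicF.XTmap f (c.π.app i))).continuous)
    (fun y hy => by
      obtain ⟨j, hj⟩ := exists_stage_flatAt f F hF hc hD hT _ hy
      exact Set.mem_iUnion.2 ⟨j, hj⟩)
  obtain ⟨k, hk⟩ := IsCofiltered.inf_objs_exists Fs
  obtain ⟨-, z, hz, -, hqz, hn⟩ := hs k
  have e : PicF.XTproj f (D.obj k) z = (c.π.app k).left t := hqz.trans (hproj _ s)
  obtain ⟨z', hz', hqz', hrd⟩ :=
    FibDim.exists_rd_baseChange_eq (FlatFunHx.isPullback_XTmap f (c.π.app k)) z t e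
  obtain ⟨y, hy⟩ : z' ∈ Set.range (q.fiberι t) := by rw [Scheme.Hom.range_fiberι]; exact hqz'
  rw [FlatFunHx.DimFlatAt, FlatFunHx.dimFibresLT_iff] at h
  refine (not_lt.2 (hrd ▸ hn)) (h z' fun hflat => ?_)
  obtain ⟨i, hi, hyi⟩ := Set.mem_iUnion₂.1 (hFs (show FlatMod.IsFlatOverAt q (FGA.ET f F c.pt) (q.fiberι t y) from by rw [hy]; exact hflat))
  obtain ⟨m⟩ := hk hi
  refine hz ?_
  rw [← hz', ← hy]
  refine FlatFunHx.flatAt_of_hom f F (D.map m) _ ?_
  rw [← Scheme.Hom.comp_apply (PicF.XTmap f (c.π.app k))]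
  exact (congrArg (fun φ : (FlatHpHx.XTcone f D c).pt ⟶ (FlatHpHx.XTfunctor f D).obj i => φ (q.fiberι t y))
    ((FlatHpHx.XTcone f D c).w m)).symm ▸ hyi

end Groth.Agent.FlatLimHx
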